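import Cfsg.Agent.Lib.KnownSimple.MultM.J3L.Pres
import Cfsg.Agent.Lib.KnownSimple.MultM.J3L.Data0_0

/-!
# A coset enumeration
-/

set_option autoImplicit false

namespace Cfsg.Agent.Lib.KnownSimple.MultM.J3L

open Cfsg Cfsg.Spor Cfsg.Agent.Lib.Compute Cfsg.Agent.Lib.KnownSimple.PE Cfsg.Agent.Lib.KnownSimple.Leech
open Cfsg.Agent.Lib.KnownSimple Cfsg.Agent.Lib.KnownSimple.AutRigid Cfsg.Agent.Lib.KnownSimple.Pres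

/-- A coset enumeration. -/
noncomputable def C0 : Cert where
  eL := 99
  ig := fun a => a
  words := [[], [0, 0], [1, 1], [2, 2], [3, 3], [4, 4], [0, 1, 0, 1], [1, 0, 1, 0], [0, 2, 0, 2, 0, 2, 0, 2, 0, 2], [2, 0, 2, 0, 2, 0, 2, 0, 2, 0], [0, 3, 0, 3, 0, 3, 0, 3, 0, 3, 0, 3, 0, 3, 0, 3, 0, 3, 0, 3, 0, 3, 0, 3, 0, 3, 0, 3, 0, 3, 0, 3, 0, 3], [3, 0, 3, 0, 3, 0, 3, 0, 3, 0, 3, 0, 3, 0, 3, 0, 3, 0, 3, 0, 3, 0, 3, 0, 3, 0, 3, 0, 3, 0, 3, 0, 3, 0], [0, 4, 0, 4, 0, 4, 0, 4, 0, 4, 0, 4, 0, 4, 0, 4, 0, 4], [4, 0, 4, 0, 4, 0, 4, 0, 4, 0, 4, 0, 4, 0, 4, 0, 4, 0], [1, 2, 1, 2, 1, 2, 1, 2, 1, 2], [2, 1, 2, 1, 2, 1, 2, 1, 2, 1], [1, 3, 1, 3, 1,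 3, 1, 3, 1, 3, 1, 3, 1, 3, 1, 3, 1, 3, 1, 3, 1, 3, 1, 3, 1, 3, 1, 3, 1, 3, 1, 3, 1, 3], [3, 1, 3, 1, 3, 1, 3, 1, 3, 1, 3, 1, 3, 1, 3, 1, 3, 1, 3, 1, 3, 1, 3, 1, 3, 1, 3, 1, 3, 1, 3, 1, 3, 1], [1, 4, 1, 4, 1, 4, 1, 4, 1, 4, 1, 4], [4, 1, 4, 1, 4, 1, 4, 1, 4, 1, 4, 1], [2, 3, 2, 3, 2, 3], [3, 2, 3, 2, 3, 2], [2, 4, 2, 4, 2, 4, 2, 4, 2, 4], [4, 2, 4, 2, 4, 2, 4, 2, 4, 2], [3, 4, 3, 4, 3, 4, 3, 4, 3, 4, 3, 4, 3, 4, 3, 4], [4, 3, 4, 3, 4, 3, 4, 3, 4, 3, 4, 3, 4, 3, 4, 3], [0, 1, 2, 0, 2, 0, 2, 0, 2, 0, 2, 1], [1, 2, 0, 2, 0, 2, 0, 2, 0, 2, 1, 0], [2, 0, 2, 0, 2, 0, 2, 0, 2, 1, 0, 1], [0, 2, 0, 2, 0, 2, 0, 2, 1, 0, 1, 2], [2, 0, 2, 0, 2,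 0, 2, 1, 0, 1, 2, 0], [0, 2, 0, 2, 0, 2, 1, 0, 1, 2, 0, 2], [2, 0, 2, 0, 2, 1, 0, 1, 2, 0, 2, 0], [0, 2, 0, 2, 1, 0, 1, 2, 0, 2, 0, 2], [2, 0, 2, 1, 0, 1, 2, 0, 2, 0, 2, 0], [0, 2, 1, 0, 1, 2, 0, 2, 0, 2, 0, 2], [2, 1, 0, 1, 2, 0, 2, 0, 2, 0, 2, 0], [1, 0, 1, 2, 0, 2, 0, 2, 0, 2, 0, 2], [0, 1, 2, 0, 2, 1, 2, 1, 2, 1, 2, 0, 2], [1, 2, 0, 2, 1, 2, 1, 2, 1, 2, 0, 2, 0], [2, 0, 2, 1, 2, 1, 2, 1, 2, 0, 2, 0, 1], [0, 2, 1, 2, 1, 2, 1, 2, 0, 2, 0, 1, 2], [2, 1, 2, 1, 2, 1, 2, 0, 2, 0, 1, 2, 0], [1, 2, 1, 2, 1, 2, 0, 2, 0, 1, 2, 0, 2], [2, 1, 2, 1, 2, 0, 2, 0, 1, 2, 0, 2, 1], [1, 2, 1, 2, 0, 2, 0, 1, 2, 0, 2, 1, 2], [2, 1, 2, 0, 2, 0, 1, 2,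 0, 2, 1, 2, 1], [1, 2, 0, 2, 0, 1, 2, 0, 2, 1, 2, 1, 2], [2, 0, 2, 0, 1, 2, 0, 2, 1, 2, 1, 2, 1], [0, 2, 0, 1, 2, 0, 2, 1, 2, 1, 2, 1, 2], [2, 0, 1, 2, 0, 2, 1, 2, 1, 2, 1, 2, 0], [0, 1, 2, 1, 2, 0, 2, 0, 2, 0, 2, 1, 2], [1, 2, 1, 2, 0, 2, 0, 2, 0, 2, 1, 2, 0], [2, 1, 2, 0, 2, 0, 2, 0, 2, 1, 2, 0, 1], [1, 2, 0, 2, 0, 2, 0, 2, 1, 2, 0, 1, 2], [2, 0, 2, 0, 2, 0, 2, 1, 2, 0, 1, 2, 1], [0, 2, 0, 2, 0, 2, 1, 2, 0, 1, 2, 1, 2], [2, 0, 2, 0, 2, 1, 2, 0, 1, 2, 1, 2, 0], [0, 2, 0, 2, 1, 2, 0, 1, 2, 1, 2, 0, 2], [2, 0, 2, 1, 2, 0, 1, 2, 1, 2, 0, 2, 0], [0, 2, 1, 2, 0, 1, 2, 1, 2, 0, 2, 0, 2], [2, 1, 2, 0, 1, 2, 1, 2, 0, 2, 0, 2, 0], [1, 2, 0,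 1, 2, 1, 2, 0, 2, 0, 2, 0, 2], [2, 0, 1, 2, 1, 2, 0, 2, 0, 2, 0, 2, 1], [0, 1, 2, 3, 1, 2, 3, 2, 3, 1, 0, 3, 0, 3], [1, 2, 3, 1, 2, 3, 2, 3, 1, 0, 3, 0, 3, 0], [2, 3, 1, 2, 3, 2, 3, 1, 0, 3, 0, 3, 0, 1], [3, 1, 2, 3, 2, 3, 1, 0, 3, 0, 3, 0, 1, 2], [1, 2, 3, 2, 3, 1, 0, 3, 0, 3, 0, 1, 2, 3], [2, 3, 2, 3, 1, 0, 3, 0, 3, 0, 1, 2, 3, 1], [3, 2, 3, 1, 0, 3, 0, 3, 0, 1, 2, 3, 1, 2], [2, 3, 1, 0, 3, 0, 3, 0, 1, 2, 3, 1, 2, 3], [3, 1, 0, 3, 0, 3, 0, 1, 2, 3, 1, 2, 3, 2], [1, 0, 3, 0, 3, 0, 1, 2, 3, 1, 2, 3, 2, 3], [0, 3, 0, 3, 0, 1, 2, 3, 1, 2, 3, 2, 3, 1], [3, 0, 3, 0, 1, 2, 3, 1, 2, 3, 2, 3, 1, 0], [0, 3, 0, 1, 2, 3, 1, 2, 3, 2, 3, 1, 0,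 3], [3, 0, 1, 2, 3, 1, 2, 3, 2, 3, 1, 0, 3, 0], [0, 1, 2, 3, 2, 0, 3, 0, 3, 2, 1, 2, 1, 3], [1, 2, 3, 2, 0, 3, 0, 3, 2, 1, 2, 1, 3, 0], [2, 3, 2, 0, 3, 0, 3, 2, 1, 2, 1, 3, 0, 1], [3, 2, 0, 3, 0, 3, 2, 1, 2, 1, 3, 0, 1, 2], [2, 0, 3, 0, 3, 2, 1, 2, 1, 3, 0, 1, 2, 3], [0, 3, 0, 3, 2, 1, 2, 1, 3, 0, 1, 2, 3, 2], [3, 0, 3, 2, 1, 2, 1, 3, 0, 1, 2, 3, 2, 0], [0, 3, 2, 1, 2, 1, 3, 0, 1, 2, 3, 2, 0, 3], [3, 2, 1, 2, 1, 3, 0, 1, 2, 3, 2, 0, 3, 0], [2, 1, 2, 1, 3, 0, 1, 2, 3, 2, 0, 3, 0, 3], [1, 2, 1, 3, 0, 1, 2, 3, 2, 0, 3, 0, 3, 2], [2, 1, 3, 0, 1, 2, 3, 2, 0, 3, 0, 3, 2, 1], [1, 3, 0, 1, 2, 3, 2, 0, 3, 0, 3, 2, 1, 2], [3, 0, 1, 2, 3, 2, 0,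 3, 0, 3, 2, 1, 2, 1], [0, 2, 0, 2, 3, 1, 4, 2, 1, 3, 2, 0, 3, 2, 1, 4, 3, 2], [2, 0, 2, 3, 1, 4, 2, 1, 3, 2, 0, 3, 2, 1, 4, 3, 2, 0], [0, 2, 3, 1, 4, 2, 1, 3, 2, 0, 3, 2, 1, 4, 3, 2, 0, 2], [2, 3, 1, 4, 2, 1, 3, 2, 0, 3, 2, 1, 4, 3, 2, 0, 2, 0], [3, 1, 4, 2, 1, 3, 2, 0, 3, 2, 1, 4, 3, 2, 0, 2, 0, 2], [1, 4, 2, 1, 3, 2, 0, 3, 2, 1, 4, 3, 2, 0, 2, 0, 2, 3], [4, 2, 1, 3, 2, 0, 3, 2, 1, 4, 3, 2, 0, 2, 0, 2, 3, 1], [2, 1, 3, 2, 0, 3, 2, 1, 4, 3, 2, 0, 2, 0, 2, 3, 1, 4], [1, 3, 2, 0, 3, 2, 1, 4, 3, 2, 0, 2, 0, 2, 3, 1, 4, 2], [3, 2, 0, 3, 2, 1, 4, 3, 2, 0, 2, 0, 2, 3, 1, 4, 2, 1], [2, 0, 3, 2, 1, 4, 3, 2, 0, 2, 0, 2, 3, 1, 4, 2, 1, 3], [0,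 3, 2, 1, 4, 3, 2, 0, 2, 0, 2, 3, 1, 4, 2, 1, 3, 2], [3, 2, 1, 4, 3, 2, 0, 2, 0, 2, 3, 1, 4, 2, 1, 3, 2, 0], [2, 1, 4, 3, 2, 0, 2, 0, 2, 3, 1, 4, 2, 1, 3, 2, 0, 3], [1, 4, 3, 2, 0, 2, 0, 2, 3, 1, 4, 2, 1, 3, 2, 0, 3, 2], [4, 3, 2, 0, 2, 0, 2, 3, 1, 4, 2, 1, 3, 2, 0, 3, 2, 1], [3, 2, 0, 2, 0, 2, 3, 1, 4, 2, 1, 3, 2, 0, 3, 2, 1, 4], [2, 0, 2, 0, 2, 3, 1, 4, 2, 1, 3, 2, 0, 3, 2, 1, 4, 3], [0, 1, 0, 2, 3, 2, 0, 2, 0, 3, 1, 2, 3, 2, 0, 2, 0, 3], [1, 0, 2, 3, 2, 0, 2, 0, 3, 1, 2, 3, 2, 0, 2, 0, 3, 0], [0, 2, 3, 2, 0, 2, 0, 3, 1, 2, 3, 2, 0, 2, 0, 3, 0, 1], [2, 3, 2, 0, 2, 0, 3, 1, 2, 3, 2, 0, 2, 0, 3, 0, 1, 0], [3, 2, 0, 2, 0, 3, 1, 2, 3,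 2, 0, 2, 0, 3, 0, 1, 0, 2], [2, 0, 2, 0, 3, 1, 2, 3, 2, 0, 2, 0, 3, 0, 1, 0, 2, 3], [0, 2, 0, 3, 1, 2, 3, 2, 0, 2, 0, 3, 0, 1, 0, 2, 3, 2], [2, 0, 3, 1, 2, 3, 2, 0, 2, 0, 3, 0, 1, 0, 2, 3, 2, 0], [0, 3, 1, 2, 3, 2, 0, 2, 0, 3, 0, 1, 0, 2, 3, 2, 0, 2], [3, 1, 2, 3, 2, 0, 2, 0, 3, 0, 1, 0, 2, 3, 2, 0, 2, 0], [1, 2, 3, 2, 0, 2, 0, 3, 0, 1, 0, 2, 3, 2, 0, 2, 0, 3], [2, 3, 2, 0, 2, 0, 3, 0, 1, 0, 2, 3, 2, 0, 2, 0, 3, 1], [3, 2, 0, 2, 0, 3, 0, 1, 0, 2, 3, 2, 0, 2, 0, 3, 1, 2], [2, 0, 2, 0, 3, 0, 1, 0, 2, 3, 2, 0, 2, 0, 3, 1, 2, 3], [0, 2, 0, 3, 0, 1, 0, 2, 3, 2, 0, 2, 0, 3, 1, 2, 3, 2], [2, 0, 3, 0, 1, 0, 2, 3, 2, 0, 2, 0, 3, 1, 2, 3, 2,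 0], [0, 3, 0, 1, 0, 2, 3, 2, 0, 2, 0, 3, 1, 2, 3, 2, 0, 2], [3, 0, 1, 0, 2, 3, 2, 0, 2, 0, 3, 1, 2, 3, 2, 0, 2, 0], [0, 1, 3, 0, 2, 0, 2, 3, 2, 3, 0, 2, 0, 2, 3, 2, 0, 3], [1, 3, 0, 2, 0, 2, 3, 2, 3, 0, 2, 0, 2, 3, 2, 0, 3, 0], [3, 0, 2, 0, 2, 3, 2, 3, 0, 2, 0, 2, 3, 2, 0, 3, 0, 1], [0, 2, 0, 2, 3, 2, 3, 0, 2, 0, 2, 3, 2, 0, 3, 0, 1, 3], [2, 0, 2, 3, 2, 3, 0, 2, 0, 2, 3, 2, 0, 3, 0, 1, 3, 0], [0, 2, 3, 2, 3, 0, 2, 0, 2, 3, 2, 0, 3, 0, 1, 3, 0, 2], [2, 3, 2, 3, 0, 2, 0, 2, 3, 2, 0, 3, 0, 1, 3, 0, 2, 0], [3, 2, 3, 0, 2, 0, 2, 3, 2, 0, 3, 0, 1, 3, 0, 2, 0, 2], [2, 3, 0, 2, 0, 2, 3, 2, 0, 3, 0, 1, 3, 0, 2, 0, 2, 3], [3, 0, 2, 0, 2, 3, 2,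 0, 3, 0, 1, 3, 0, 2, 0, 2, 3, 2], [0, 2, 0, 2, 3, 2, 0, 3, 0, 1, 3, 0, 2, 0, 2, 3, 2, 3], [2, 0, 2, 3, 2, 0, 3, 0, 1, 3, 0, 2, 0, 2, 3, 2, 3, 0], [0, 2, 3, 2, 0, 3, 0, 1, 3, 0, 2, 0, 2, 3, 2, 3, 0, 2], [2, 3, 2, 0, 3, 0, 1, 3, 0, 2, 0, 2, 3, 2, 3, 0, 2, 0], [3, 2, 0, 3, 0, 1, 3, 0, 2, 0, 2, 3, 2, 3, 0, 2, 0, 2], [2, 0, 3, 0, 1, 3, 0, 2, 0, 2, 3, 2, 3, 0, 2, 0, 2, 3], [0, 3, 0, 1, 3, 0, 2, 0, 2, 3, 2, 3, 0, 2, 0, 2, 3, 2], [3, 0, 1, 3, 0, 2, 0, 2, 3, 2, 3, 0, 2, 0, 2, 3, 2, 0], [0, 2, 1, 3, 0, 3, 0, 3, 2, 1, 2, 3, 2, 0, 2, 3, 0, 3], [2, 1, 3, 0, 3, 0, 3, 2, 1, 2, 3, 2, 0, 2, 3, 0, 3, 0], [1, 3, 0, 3, 0, 3, 2, 1, 2, 3, 2, 0, 2, 3, 0,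 3, 0, 2], [3, 0, 3, 0, 3, 2, 1, 2, 3, 2, 0, 2, 3, 0, 3, 0, 2, 1], [0, 3, 0, 3, 2, 1, 2, 3, 2, 0, 2, 3, 0, 3, 0, 2, 1, 3], [3, 0, 3, 2, 1, 2, 3, 2, 0, 2, 3, 0, 3, 0, 2, 1, 3, 0], [0, 3, 2, 1, 2, 3, 2, 0, 2, 3, 0, 3, 0, 2, 1, 3, 0, 3], [3, 2, 1, 2, 3, 2, 0, 2, 3, 0, 3, 0, 2, 1, 3, 0, 3, 0], [2, 1, 2, 3, 2, 0, 2, 3, 0, 3, 0, 2, 1, 3, 0, 3, 0, 3], [1, 2, 3, 2, 0, 2, 3, 0, 3, 0, 2, 1, 3, 0, 3, 0, 3, 2], [2, 3, 2, 0, 2, 3, 0, 3, 0, 2, 1, 3, 0, 3, 0, 3, 2, 1], [3, 2, 0, 2, 3, 0, 3, 0, 2, 1, 3, 0, 3, 0, 3, 2, 1, 2], [2, 0, 2, 3, 0, 3, 0, 2, 1, 3, 0, 3, 0, 3, 2, 1, 2, 3], [0, 2, 3, 0, 3, 0, 2, 1, 3, 0, 3, 0, 3, 2, 1, 2, 3, 2], [2, 3, 0, 3, 0,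 2, 1, 3, 0, 3, 0, 3, 2, 1, 2, 3, 2, 0], [3, 0, 3, 0, 2, 1, 3, 0, 3, 0, 3, 2, 1, 2, 3, 2, 0, 2], [0, 3, 0, 2, 1, 3, 0, 3, 0, 3, 2, 1, 2, 3, 2, 0, 2, 3], [3, 0, 2, 1, 3, 0, 3, 0, 3, 2, 1, 2, 3, 2, 0, 2, 3, 0], [0, 1, 2, 1, 2, 3, 2, 0, 3, 0, 3, 1, 3, 2, 0, 2, 3, 2], [1, 2, 1, 2, 3, 2, 0, 3, 0, 3, 1, 3, 2, 0, 2, 3, 2, 0], [2, 1, 2, 3, 2, 0, 3, 0, 3, 1, 3, 2, 0, 2, 3, 2, 0, 1], [1, 2, 3, 2, 0, 3, 0, 3, 1, 3, 2, 0, 2, 3, 2, 0, 1, 2], [2, 3, 2, 0, 3, 0, 3, 1, 3, 2, 0, 2, 3, 2, 0, 1, 2, 1], [3, 2, 0, 3, 0, 3, 1, 3, 2, 0, 2, 3, 2, 0, 1, 2, 1, 2], [2, 0, 3, 0, 3, 1, 3, 2, 0, 2, 3, 2, 0, 1, 2, 1, 2, 3], [0, 3, 0, 3, 1, 3, 2, 0, 2, 3, 2, 0, 1,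 2, 1, 2, 3, 2], [3, 0, 3, 1, 3, 2, 0, 2, 3, 2, 0, 1, 2, 1, 2, 3, 2, 0], [0, 3, 1, 3, 2, 0, 2, 3, 2, 0, 1, 2, 1, 2, 3, 2, 0, 3], [3, 1, 3, 2, 0, 2, 3, 2, 0, 1, 2, 1, 2, 3, 2, 0, 3, 0], [1, 3, 2, 0, 2, 3, 2, 0, 1, 2, 1, 2, 3, 2, 0, 3, 0, 3], [3, 2, 0, 2, 3, 2, 0, 1, 2, 1, 2, 3, 2, 0, 3, 0, 3, 1], [2, 0, 2, 3, 2, 0, 1, 2, 1, 2, 3, 2, 0, 3, 0, 3, 1, 3], [0, 2, 3, 2, 0, 1, 2, 1, 2, 3, 2, 0, 3, 0, 3, 1, 3, 2], [2, 3, 2, 0, 1, 2, 1, 2, 3, 2, 0, 3, 0, 3, 1, 3, 2, 0], [3, 2, 0, 1, 2, 1, 2, 3, 2, 0, 3, 0, 3, 1, 3, 2, 0, 2], [2, 0, 1, 2, 1, 2, 3, 2, 0, 3, 0, 3, 1, 3, 2, 0, 2, 3], [0, 3, 1, 2, 3, 2, 1, 2, 3, 0, 3, 1, 2, 3, 2, 1, 2, 3], [3, 1, 2,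 3, 2, 1, 2, 3, 0, 3, 1, 2, 3, 2, 1, 2, 3, 0], [1, 2, 3, 2, 1, 2, 3, 0, 3, 1, 2, 3, 2, 1, 2, 3, 0, 3], [2, 3, 2, 1, 2, 3, 0, 3, 1, 2, 3, 2, 1, 2, 3, 0, 3, 1], [3, 2, 1, 2, 3, 0, 3, 1, 2, 3, 2, 1, 2, 3, 0, 3, 1, 2], [2, 1, 2, 3, 0, 3, 1, 2, 3, 2, 1, 2, 3, 0, 3, 1, 2, 3], [1, 2, 3, 0, 3, 1, 2, 3, 2, 1, 2, 3, 0, 3, 1, 2, 3, 2], [2, 3, 0, 3, 1, 2, 3, 2, 1, 2, 3, 0, 3, 1, 2, 3, 2, 1], [3, 0, 3, 1, 2, 3, 2, 1, 2, 3, 0, 3, 1, 2, 3, 2, 1, 2], [0, 1, 2, 3, 1, 3, 2, 1, 2, 3, 2, 0, 1, 3, 1, 2, 1, 2], [1, 2, 3, 1, 3, 2, 1, 2, 3, 2, 0, 1, 3, 1, 2, 1, 2, 0], [2, 3, 1, 3, 2, 1, 2, 3, 2, 0, 1, 3, 1, 2, 1, 2, 0, 1], [3, 1, 3, 2, 1, 2, 3, 2, 0, 1, 3,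 1, 2, 1, 2, 0, 1, 2], [1, 3, 2, 1, 2, 3, 2, 0, 1, 3, 1, 2, 1, 2, 0, 1, 2, 3], [3, 2, 1, 2, 3, 2, 0, 1, 3, 1, 2, 1, 2, 0, 1, 2, 3, 1], [2, 1, 2, 3, 2, 0, 1, 3, 1, 2, 1, 2, 0, 1, 2, 3, 1, 3], [1, 2, 3, 2, 0, 1, 3, 1, 2, 1, 2, 0, 1, 2, 3, 1, 3, 2], [2, 3, 2, 0, 1, 3, 1, 2, 1, 2, 0, 1, 2, 3, 1, 3, 2, 1], [3, 2, 0, 1, 3, 1, 2, 1, 2, 0, 1, 2, 3, 1, 3, 2, 1, 2], [2, 0, 1, 3, 1, 2, 1, 2, 0, 1, 2, 3, 1, 3, 2, 1, 2, 3], [0, 1, 3, 1, 2, 1, 2, 0, 1, 2, 3, 1, 3, 2, 1, 2, 3, 2], [1, 3, 1, 2, 1, 2, 0, 1, 2, 3, 1, 3, 2, 1, 2, 3, 2, 0], [3, 1, 2, 1, 2, 0, 1, 2, 3, 1, 3, 2, 1, 2, 3, 2, 0, 1], [1, 2, 1, 2, 0, 1, 2, 3, 1, 3, 2, 1, 2, 3, 2, 0, 1, 3], [2,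 1, 2, 0, 1, 2, 3, 1, 3, 2, 1, 2, 3, 2, 0, 1, 3, 1], [1, 2, 0, 1, 2, 3, 1, 3, 2, 1, 2, 3, 2, 0, 1, 3, 1, 2], [2, 0, 1, 2, 3, 1, 3, 2, 1, 2, 3, 2, 0, 1, 3, 1, 2, 1], [0, 2, 3, 1, 3, 1, 2, 3, 2, 0, 3, 1, 3, 2, 1, 3, 0, 3], [2, 3, 1, 3, 1, 2, 3, 2, 0, 3, 1, 3, 2, 1, 3, 0, 3, 0], [3, 1, 3, 1, 2, 3, 2, 0, 3, 1, 3, 2, 1, 3, 0, 3, 0, 2], [1, 3, 1, 2, 3, 2, 0, 3, 1, 3, 2, 1, 3, 0, 3, 0, 2, 3], [3, 1, 2, 3, 2, 0, 3, 1, 3, 2, 1, 3, 0, 3, 0, 2, 3, 1], [1, 2, 3, 2, 0, 3, 1, 3, 2, 1, 3, 0, 3, 0, 2, 3, 1, 3], [2, 3, 2, 0, 3, 1, 3, 2, 1, 3, 0, 3, 0, 2, 3, 1, 3, 1], [3, 2, 0, 3, 1, 3, 2, 1, 3, 0, 3, 0, 2, 3, 1, 3, 1, 2], [2, 0, 3, 1, 3, 2, 1, 3, 0,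 3, 0, 2, 3, 1, 3, 1, 2, 3], [0, 3, 1, 3, 2, 1, 3, 0, 3, 0, 2, 3, 1, 3, 1, 2, 3, 2], [3, 1, 3, 2, 1, 3, 0, 3, 0, 2, 3, 1, 3, 1, 2, 3, 2, 0], [1, 3, 2, 1, 3, 0, 3, 0, 2, 3, 1, 3, 1, 2, 3, 2, 0, 3], [3, 2, 1, 3, 0, 3, 0, 2, 3, 1, 3, 1, 2, 3, 2, 0, 3, 1], [2, 1, 3, 0, 3, 0, 2, 3, 1, 3, 1, 2, 3, 2, 0, 3, 1, 3], [1, 3, 0, 3, 0, 2, 3, 1, 3, 1, 2, 3, 2, 0, 3, 1, 3, 2], [3, 0, 3, 0, 2, 3, 1, 3, 1, 2, 3, 2, 0, 3, 1, 3, 2, 1], [0, 3, 0, 2, 3, 1, 3, 1, 2, 3, 2, 0, 3, 1, 3, 2, 1, 3], [3, 0, 2, 3, 1, 3, 1, 2, 3, 2, 0, 3, 1, 3, 2, 1, 3, 0], [0, 1, 2, 3, 1, 2, 3, 1, 2, 1, 2, 3, 2, 1, 3, 2, 1, 2], [1, 2, 3, 1, 2, 3, 1, 2, 1, 2, 3, 2, 1, 3, 2, 1, 2,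 0], [2, 3, 1, 2, 3, 1, 2, 1, 2, 3, 2, 1, 3, 2, 1, 2, 0, 1], [3, 1, 2, 3, 1, 2, 1, 2, 3, 2, 1, 3, 2, 1, 2, 0, 1, 2], [1, 2, 3, 1, 2, 1, 2, 3, 2, 1, 3, 2, 1, 2, 0, 1, 2, 3], [2, 3, 1, 2, 1, 2, 3, 2, 1, 3, 2, 1, 2, 0, 1, 2, 3, 1], [3, 1, 2, 1, 2, 3, 2, 1, 3, 2, 1, 2, 0, 1, 2, 3, 1, 2], [1, 2, 1, 2, 3, 2, 1, 3, 2, 1, 2, 0, 1, 2, 3, 1, 2, 3], [2, 1, 2, 3, 2, 1, 3, 2, 1, 2, 0, 1, 2, 3, 1, 2, 3, 1], [1, 2, 3, 2, 1, 3, 2, 1, 2, 0, 1, 2, 3, 1, 2, 3, 1, 2], [2, 3, 2, 1, 3, 2, 1, 2, 0, 1, 2, 3, 1, 2, 3, 1, 2, 1], [3, 2, 1, 3, 2, 1, 2, 0, 1, 2, 3, 1, 2, 3, 1, 2, 1, 2], [2, 1, 3, 2, 1, 2, 0, 1, 2, 3, 1, 2, 3, 1, 2, 1, 2, 3], [1, 3, 2, 1, 2, 0, 1,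 2, 3, 1, 2, 3, 1, 2, 1, 2, 3, 2], [3, 2, 1, 2, 0, 1, 2, 3, 1, 2, 3, 1, 2, 1, 2, 3, 2, 1], [2, 1, 2, 0, 1, 2, 3, 1, 2, 3, 1, 2, 1, 2, 3, 2, 1, 3], [1, 2, 0, 1, 2, 3, 1, 2, 3, 1, 2, 1, 2, 3, 2, 1, 3, 2], [2, 0, 1, 2, 3, 1, 2, 3, 1, 2, 1, 2, 3, 2, 1, 3, 2, 1], [0, 1, 3, 0, 3, 2, 1, 2, 3, 1, 2, 3, 2, 1, 2, 1, 2, 3], [1, 3, 0, 3, 2, 1, 2, 3, 1, 2, 3, 2, 1, 2, 1, 2, 3, 0], [3, 0, 3, 2, 1, 2, 3, 1, 2, 3, 2, 1, 2, 1, 2, 3, 0, 1], [0, 3, 2, 1, 2, 3, 1, 2, 3, 2, 1, 2, 1, 2, 3, 0, 1, 3], [3, 2, 1, 2, 3, 1, 2, 3, 2, 1, 2, 1, 2, 3, 0, 1, 3, 0], [2, 1, 2, 3, 1, 2, 3, 2, 1, 2, 1, 2, 3, 0, 1, 3, 0, 3], [1, 2, 3, 1, 2, 3, 2, 1, 2, 1, 2, 3, 0, 1, 3,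 0, 3, 2], [2, 3, 1, 2, 3, 2, 1, 2, 1, 2, 3, 0, 1, 3, 0, 3, 2, 1], [3, 1, 2, 3, 2, 1, 2, 1, 2, 3, 0, 1, 3, 0, 3, 2, 1, 2], [1, 2, 3, 2, 1, 2, 1, 2, 3, 0, 1, 3, 0, 3, 2, 1, 2, 3], [2, 3, 2, 1, 2, 1, 2, 3, 0, 1, 3, 0, 3, 2, 1, 2, 3, 1], [3, 2, 1, 2, 1, 2, 3, 0, 1, 3, 0, 3, 2, 1, 2, 3, 1, 2], [2, 1, 2, 1, 2, 3, 0, 1, 3, 0, 3, 2, 1, 2, 3, 1, 2, 3], [1, 2, 1, 2, 3, 0, 1, 3, 0, 3, 2, 1, 2, 3, 1, 2, 3, 2], [2, 1, 2, 3, 0, 1, 3, 0, 3, 2, 1, 2, 3, 1, 2, 3, 2, 1], [1, 2, 3, 0, 1, 3, 0, 3, 2, 1, 2, 3, 1, 2, 3, 2, 1, 2], [2, 3, 0, 1, 3, 0, 3, 2, 1, 2, 3, 1, 2, 3, 2, 1, 2, 1], [3, 0, 1, 3, 0, 3, 2, 1, 2, 3, 1, 2, 3, 2, 1, 2, 1, 2], [0, 2, 3, 4, 1,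 3, 0, 4, 2, 1, 2, 4, 2, 3, 1, 3, 0, 4], [2, 3, 4, 1, 3, 0, 4, 2, 1, 2, 4, 2, 3, 1, 3, 0, 4, 0], [3, 4, 1, 3, 0, 4, 2, 1, 2, 4, 2, 3, 1, 3, 0, 4, 0, 2], [4, 1, 3, 0, 4, 2, 1, 2, 4, 2, 3, 1, 3, 0, 4, 0, 2, 3], [1, 3, 0, 4, 2, 1, 2, 4, 2, 3, 1, 3, 0, 4, 0, 2, 3, 4], [3, 0, 4, 2, 1, 2, 4, 2, 3, 1, 3, 0, 4, 0, 2, 3, 4, 1], [0, 4, 2, 1, 2, 4, 2, 3, 1, 3, 0, 4, 0, 2, 3, 4, 1, 3], [4, 2, 1, 2, 4, 2, 3, 1, 3, 0, 4, 0, 2, 3, 4, 1, 3, 0], [2, 1, 2, 4, 2, 3, 1, 3, 0, 4, 0, 2, 3, 4, 1, 3, 0, 4], [1, 2, 4, 2, 3, 1, 3, 0, 4, 0, 2, 3, 4, 1, 3, 0, 4, 2], [2, 4, 2, 3, 1, 3, 0, 4, 0, 2, 3, 4, 1, 3, 0, 4, 2, 1], [4, 2, 3, 1, 3, 0, 4, 0, 2, 3, 4, 1, 3,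 0, 4, 2, 1, 2], [2, 3, 1, 3, 0, 4, 0, 2, 3, 4, 1, 3, 0, 4, 2, 1, 2, 4], [3, 1, 3, 0, 4, 0, 2, 3, 4, 1, 3, 0, 4, 2, 1, 2, 4, 2], [1, 3, 0, 4, 0, 2, 3, 4, 1, 3, 0, 4, 2, 1, 2, 4, 2, 3], [3, 0, 4, 0, 2, 3, 4, 1, 3, 0, 4, 2, 1, 2, 4, 2, 3, 1], [0, 4, 0, 2, 3, 4, 1, 3, 0, 4, 2, 1, 2, 4, 2, 3, 1, 3], [4, 0, 2, 3, 4, 1, 3, 0, 4, 2, 1, 2, 4, 2, 3, 1, 3, 0], [0, 1, 2, 0, 2, 0, 2, 0, 4, 2, 4, 2, 0, 2, 1, 2, 4, 2], [1, 2, 0, 2, 0, 2, 0, 4, 2, 4, 2, 0, 2, 1, 2, 4, 2, 0], [2, 0, 2, 0, 2, 0, 4, 2, 4, 2, 0, 2, 1, 2, 4, 2, 0, 1], [0, 2, 0, 2, 0, 4, 2, 4, 2, 0, 2, 1, 2, 4, 2, 0, 1, 2], [2, 0, 2, 0, 4, 2, 4, 2, 0, 2, 1, 2, 4, 2, 0, 1, 2, 0], [0, 2, 0,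 4, 2, 4, 2, 0, 2, 1, 2, 4, 2, 0, 1, 2, 0, 2], [2, 0, 4, 2, 4, 2, 0, 2, 1, 2, 4, 2, 0, 1, 2, 0, 2, 0], [0, 4, 2, 4, 2, 0, 2, 1, 2, 4, 2, 0, 1, 2, 0, 2, 0, 2], [4, 2, 4, 2, 0, 2, 1, 2, 4, 2, 0, 1, 2, 0, 2, 0, 2, 0], [2, 4, 2, 0, 2, 1, 2, 4, 2, 0, 1, 2, 0, 2, 0, 2, 0, 4], [4, 2, 0, 2, 1, 2, 4, 2, 0, 1, 2, 0, 2, 0, 2, 0, 4, 2], [2, 0, 2, 1, 2, 4, 2, 0, 1, 2, 0, 2, 0, 2, 0, 4, 2, 4], [0, 2, 1, 2, 4, 2, 0, 1, 2, 0, 2, 0, 2, 0, 4, 2, 4, 2], [2, 1, 2, 4, 2, 0, 1, 2, 0, 2, 0, 2, 0, 4, 2, 4, 2, 0], [1, 2, 4, 2, 0, 1, 2, 0, 2, 0, 2, 0, 4, 2, 4, 2, 0, 2], [2, 4, 2, 0, 1, 2, 0, 2, 0, 2, 0, 4, 2, 4, 2, 0, 2, 1], [4, 2, 0, 1, 2, 0, 2, 0, 2, 0, 4,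 2, 4, 2, 0, 2, 1, 2], [2, 0, 1, 2, 0, 2, 0, 2, 0, 4, 2, 4, 2, 0, 2, 1, 2, 4], [0, 1, 0, 2, 4, 3, 1, 2, 4, 3, 1, 2, 4, 3, 1, 2, 4, 3], [1, 0, 2, 4, 3, 1, 2, 4, 3, 1, 2, 4, 3, 1, 2, 4, 3, 0], [0, 2, 4, 3, 1, 2, 4, 3, 1, 2, 4, 3, 1, 2, 4, 3, 0, 1], [2, 4, 3, 1, 2, 4, 3, 1, 2, 4, 3, 1, 2, 4, 3, 0, 1, 0], [4, 3, 1, 2, 4, 3, 1, 2, 4, 3, 1, 2, 4, 3, 0, 1, 0, 2], [3, 1, 2, 4, 3, 1, 2, 4, 3, 1, 2, 4, 3, 0, 1, 0, 2, 4], [1, 2, 4, 3, 1, 2, 4, 3, 1, 2, 4, 3, 0, 1, 0, 2, 4, 3], [2, 4, 3, 1, 2, 4, 3, 1, 2, 4, 3, 0, 1, 0, 2, 4, 3, 1], [4, 3, 1, 2, 4, 3, 1, 2, 4, 3, 0, 1, 0, 2, 4, 3, 1, 2], [3, 1, 2, 4, 3, 1, 2, 4, 3, 0, 1, 0, 2, 4, 3, 1, 2, 4], [1,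 2, 4, 3, 1, 2, 4, 3, 0, 1, 0, 2, 4, 3, 1, 2, 4, 3], [2, 4, 3, 1, 2, 4, 3, 0, 1, 0, 2, 4, 3, 1, 2, 4, 3, 1], [4, 3, 1, 2, 4, 3, 0, 1, 0, 2, 4, 3, 1, 2, 4, 3, 1, 2], [3, 1, 2, 4, 3, 0, 1, 0, 2, 4, 3, 1, 2, 4, 3, 1, 2, 4], [1, 2, 4, 3, 0, 1, 0, 2, 4, 3, 1, 2, 4, 3, 1, 2, 4, 3], [2, 4, 3, 0, 1, 0, 2, 4, 3, 1, 2, 4, 3, 1, 2, 4, 3, 1], [4, 3, 0, 1, 0, 2, 4, 3, 1, 2, 4, 3, 1, 2, 4, 3, 1, 2], [3, 0, 1, 0, 2, 4, 3, 1, 2, 4, 3, 1, 2, 4, 3, 1, 2, 4], [0, 1, 2, 0, 2, 0, 3, 0, 3, 2, 0, 2, 3, 0, 2, 3, 0, 3], [1, 2, 0, 2, 0, 3, 0, 3, 2, 0, 2, 3, 0, 2, 3, 0, 3, 0], [2, 0, 2, 0, 3, 0, 3, 2, 0, 2, 3, 0, 2, 3, 0, 3, 0, 1], [0, 2, 0, 3, 0, 3, 2, 0, 2,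 3, 0, 2, 3, 0, 3, 0, 1, 2], [2, 0, 3, 0, 3, 2, 0, 2, 3, 0, 2, 3, 0, 3, 0, 1, 2, 0], [0, 3, 0, 3, 2, 0, 2, 3, 0, 2, 3, 0, 3, 0, 1, 2, 0, 2], [3, 0, 3, 2, 0, 2, 3, 0, 2, 3, 0, 3, 0, 1, 2, 0, 2, 0], [0, 3, 2, 0, 2, 3, 0, 2, 3, 0, 3, 0, 1, 2, 0, 2, 0, 3], [3, 2, 0, 2, 3, 0, 2, 3, 0, 3, 0, 1, 2, 0, 2, 0, 3, 0], [2, 0, 2, 3, 0, 2, 3, 0, 3, 0, 1, 2, 0, 2, 0, 3, 0, 3], [0, 2, 3, 0, 2, 3, 0, 3, 0, 1, 2, 0, 2, 0, 3, 0, 3, 2], [2, 3, 0, 2, 3, 0, 3, 0, 1, 2, 0, 2, 0, 3, 0, 3, 2, 0], [3, 0, 2, 3, 0, 3, 0, 1, 2, 0, 2, 0, 3, 0, 3, 2, 0, 2], [0, 2, 3, 0, 3, 0, 1, 2, 0, 2, 0, 3, 0, 3, 2, 0, 2, 3], [2, 3, 0, 3, 0, 1, 2, 0, 2, 0, 3, 0, 3, 2, 0, 2, 3,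 0], [3, 0, 3, 0, 1, 2, 0, 2, 0, 3, 0, 3, 2, 0, 2, 3, 0, 2], [0, 3, 0, 1, 2, 0, 2, 0, 3, 0, 3, 2, 0, 2, 3, 0, 2, 3], [3, 0, 1, 2, 0, 2, 0, 3, 0, 3, 2, 0, 2, 3, 0, 2, 3, 0]]
  sub := fun x => Nat.blt x 4
  par := pgetT 15 32767 par0
  gix := pgetT 3 7 gix0
  dp := pgetT 4 15 dp0
  fa := pgetT 16 65535 fa0
  fl := pgetT 7 127 fl0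
  fb := pgetT 16 65535 fb0
  fk := pgetT 9 511 fk0
  po := pgetT 20 1048575 po0
  pc := pgetT 6 63 pc0
  pa := pgetT 19 524287 pa0
  can := pgetT 16 65535 can0
  t := cns (pgetT 14 16383 tb0_0) (cns (pgetT 14 16383 tb0_1) (cns (pgetT 14 16383 tb0_2) (cns (pgetT 14 16383 tb0_3) (cns (pgetT 14 16383 tb0_4) (fun _ => 0)))))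
  fid := cns (pgetT 18 262143 fi0_0) (cns (pgetT 18 262143 fi0_1) (cns (pgetT 18 262143 fi0_2) (cns (pgetT 18 262143 fi0_3) (cns (pgetT 18 262143 fi0_4) (fun _ => 0)))))

/-- The number of facts. -/
abbrev K0 : ℕ := 223726

set_option maxRecDepth 100000 in
theorem words0 : wordsOK ([] :: S.L.relW) C0.words = true := by decide +kernel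

end Cfsg.Agent.Lib.KnownSimple.MultM.J3L
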