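import Cfsg.Agent.Lib.KnownSimple.MultM.J3L.Rel
import Cfsg.Agent.Lib.KnownSimple.MultM.J3L.LowD
import Cfsg.Agent.Lib.KnownSimple.MultC.LowR

/-!
# The lower bound
-/

set_option autoImplicit false

namespace Cfsg.Agent.Lib.KnownSimple.MultM.J3L

open Cfsg Cfsg.Spor Cfsg.Agent.Lib.Compute Cfsg.Agent.Lib.KnownSimple.PE Cfsg.Agent.Lib.KnownSimple.Leech
open Cfsg.Agent.Lib.KnownSimple Cfsg.Agent.Lib.KnownSimple.AutRigid Cfsg.Agent.Lib.KnownSimple.Pres
open Cfsg.Agent.Lib.KnownSimple.MultC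


/-- The cocycle. -/
noncomputable abbrev κ : ℕ → ℕ → ℕ := tauP d kb
set_option maxHeartbeats 0 in
set_option maxRecDepth 100000 in
theorem hκ : chkK κ τ d n 3 = true := by decide +kernel
theorem chkRels_app (a b : List (List ℕ)) : chkRels κ τ n 3 (a ++ b) = (chkRels κ τ n 3 a && chkRels κ τ n 3 b) := List.all_append
set_option maxRecDepth 100000 in
/-- Relators, part 0. -/
def RK0 : List (List ℕ) := [[0,0],[2,2],[4,4],[6,6],[8,8],[0,2,0,2],[0,4,0,4,0,4,0,4,0,4],[0,6,0,6,0,6,0,6,0,6,0,6,0,6,0,6,0,6,0,6,0,6,0,6,0,6,0,6,0,6,0,6,0,6]]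
set_option maxHeartbeats 0 in
set_option maxRecDepth 100000 in
theorem hrelK_0 : chkRels κ τ n 3 RK0 = true := by decide +kernel
set_option maxRecDepth 100000 in
/-- Relators, part 1. -/
def RK1 : List (List ℕ) := [[0,8,0,8,0,8,0,8,0,8,0,8,0,8,0,8,0,8],[2,4,2,4,2,4,2,4,2,4]]
set_option maxHeartbeats 0 in
set_option maxRecDepth 100000 in
theorem hrelK_1 : chkRels κ τ n 3 RK1 = true := by decide +kernel
set_option maxRecDepth 100000 in
/-- Relators, part 2. -/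
def RK2 : List (List ℕ) := [[2,6,2,6,2,6,2,6,2,6,2,6,2,6,2,6,2,6,2,6,2,6,2,6,2,6,2,6,2,6,2,6,2,6],[2,8,2,8,2,8,2,8,2,8,2,8],[4,6,4,6,4,6]]
set_option maxHeartbeats 0 in
set_option maxRecDepth 100000 in
theorem hrelK_2 : chkRels κ τ n 3 RK2 = true := by decide +kernel
set_option maxRecDepth 100000 in
/-- Relators, part 3. -/
def RK3 : List (List ℕ) := [[4,8,4,8,4,8,4,8,4,8],[6,8,6,8,6,8,6,8,6,8,6,8,6,8,6,8],[0,2,4,0,4,0,4,0,4,0,4,2],[0,2,4,0,4,2,4,2,4,2,4,0,4]]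
set_option maxHeartbeats 0 in
set_option maxRecDepth 100000 in
theorem hrelK_3 : chkRels κ τ n 3 RK3 = true := by decide +kernel
set_option maxRecDepth 100000 in
/-- Relators, part 4. -/
def RK4 : List (List ℕ) := [[0,2,4,2,4,0,4,0,4,0,4,2,4],[0,2,4,6,2,4,6,4,6,2,0,6,0,6],[0,2,4,6,4,0,6,0,6,4,2,4,2,6],[0,4,0,4,6,2,8,4,2,6,4,0,6,4,2,8,6,4]]
set_option maxHeartbeats 0 in
set_option maxRecDepth 100000 in
theorem hrelK_4 : chkRels κ τ n 3 RK4 = true := by decide +kernel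
set_option maxRecDepth 100000 in
/-- Relators, part 5. -/
def RK5 : List (List ℕ) := [[0,2,0,4,6,4,0,4,0,6,2,4,6,4,0,4,0,6],[0,2,6,0,4,0,4,6,4,6,0,4,0,4,6,4,0,6],[0,4,2,6,0,6,0,6,4,2,4,6,4,0,4,6,0,6]]
set_option maxHeartbeats 0 in
set_option maxRecDepth 100000 in
theorem hrelK_5 : chkRels κ τ n 3 RK5 = true := by decide +kernel
set_option maxRecDepth 100000 in
/-- Relators, part 6. -/
def RK6 : List (List ℕ) := [[0,2,4,2,4,6,4,0,6,0,6,2,6,4,0,4,6,4],[0,6,2,4,6,4,2,4,6,0,6,2,4,6,4,2,4,6],[0,2,4,6,2,6,4,2,4,6,4,0,2,6,2,4,2,4]]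
set_option maxHeartbeats 0 in
set_option maxRecDepth 100000 in
theorem hrelK_6 : chkRels κ τ n 3 RK6 = true := by decide +kernel
set_option maxRecDepth 100000 in
/-- Relators, part 7. -/
def RK7 : List (List ℕ) := [[0,4,6,2,6,2,4,6,4,0,6,2,6,4,2,6,0,6],[0,2,4,6,2,4,6,2,4,2,4,6,4,2,6,4,2,4],[0,2,6,0,6,4,2,4,6,2,4,6,4,2,4,2,4,6]]
set_option maxHeartbeats 0 in
set_option maxRecDepth 100000 in
theorem hrelK_7 : chkRels κ τ n 3 RK7 = true := by decide +kernel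
set_option maxRecDepth 100000 in
/-- Relators, part 8. -/
def RK8 : List (List ℕ) := [[0,4,6,8,2,6,0,8,4,2,4,8,4,6,2,6,0,8],[0,2,4,0,4,0,4,0,8,4,8,4,0,4,2,4,8,4],[0,2,0,4,8,6,2,4,8,6,2,4,8,6,2,4,8,6]]
set_option maxHeartbeats 0 in
set_option maxRecDepth 100000 in
theorem hrelK_8 : chkRels κ τ n 3 RK8 = true := by decide +kernel
set_option maxRecDepth 100000 in
/-- Relators, part 9. -/
def RK9 : List (List ℕ) := [[0,2,4,0,4,0,6,0,6,4,0,4,6,0,4,6,0,6]]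
set_option maxHeartbeats 0 in
set_option maxRecDepth 100000 in
theorem hrelK_9 : chkRels κ τ n 3 RK9 = true := by decide +kernel
set_option maxHeartbeats 0 in
set_option maxRecDepth 100000 in
theorem hR0split : R0 = RK0 ++ RK1 ++ RK2 ++ RK3 ++ RK4 ++ RK5 ++ RK6 ++ RK7 ++ RK8 ++ RK9 := by decide +kernel
theorem hrelK : chkRels κ τ n 3 R0 = true := by
  rw [hR0split, chkRels_app, chkRels_app, chkRels_app, chkRels_app, chkRels_app, chkRels_app, chkRels_app, chkRels_app, chkRels_app, hrelK_0, hrelK_1, hrelK_2, hrelK_3, hrelK_4, hrelK_5, hrelK_6, hrelK_7, hrelK_8, hrelK_9]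
  rfl
set_option maxHeartbeats 0 in
set_option maxRecDepth 100000 in
theorem hrhoK : chkRho κ τ d n 3 A B = true := by decide +kernel
set_option maxHeartbeats 0 in
set_option maxRecDepth 100000 in
theorem hzK : chkConst κ τ n 3 (lg [] R0 30) 1 = true := by decide +kernel
theorem hr₀ : lg [] R0 30 ∈ stdRels S := hrr.1 _ (by decide +kernel)
set_option maxHeartbeats 0 in
set_option maxRecDepth 100000 in
theorem hAB : ∀ x, x < d → (∀ l ∈ A x, l < 2 * d) ∧ (∀ l ∈ B x, l < 2 * d) := by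
  have h : allBelow (fun x => ((A x).all fun l => Nat.blt l (2 * d)) && ((B x).all fun l => Nat.blt l (2 * d))) d = true := by
    decide +kernel
  intro x hx
  have h1 := (allBelow_iff _ _).1 h x hx
  rw [Bool.and_eq_true] at h1
  exact ⟨fun l hl => by simpa [Nat.blt_eq] using List.all_eq_true.1 h1.1 l hl,
    fun l hl => by simpa [Nat.blt_eq] using List.all_eq_true.1 h1.2 l hl⟩
theorem lowerP : ∃ (Γ : Type) (_ : Group Γ) (_ : Finite Γ) (σ : Γ →* P),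
    IsStemExtension σ ∧ Nonempty (σ.ker ≃* Multiplicative (ZMod 3)) :=
  lower (m := 3) hP C h0 κ (of_chkK hκ) A B hcomm hok hAB (of_chkRels_rot C hrelK (fun r hr => hok r (hrr.1 r hr)) hrr.2) (of_chkRho hrhoK) hr₀ (of_chkOne hzK)

end Cfsg.Agent.Lib.KnownSimple.MultM.J3L
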