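import Cfsg.Agent.Lib.KnownSimple.MultM.J3L.Nat
import Cfsg.Agent.Lib.KnownSimple.MultM.J3L.TabD
import Cfsg.Agent.Lib.KnownSimple.MultC.LowS

/-!
# The table of the letters
-/

set_option autoImplicit false

namespace Cfsg.Agent.Lib.KnownSimple.MultM.J3L

open Cfsg Cfsg.Spor Cfsg.Agent.Lib.Compute Cfsg.Agent.Lib.KnownSimple.PE Cfsg.Agent.Lib.KnownSimple.Leech
open Cfsg.Agent.Lib.KnownSimple Cfsg.Agent.Lib.KnownSimple.AutRigid Cfsg.Agent.Lib.KnownSimple.Pres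
open Cfsg.Agent.Lib.KnownSimple.MultC


set_option maxRecDepth 100000 in
/-- Relators, part 0. -/
def R0T0 : List (List ℕ) := [[0,0],[2,2],[4,4],[6,6],[8,8],[0,2,0,2],[0,4,0,4,0,4,0,4,0,4],[0,6,0,6,0,6,0,6,0,6,0,6,0,6,0,6,0,6,0,6,0,6,0,6,0,6,0,6,0,6,0,6,0,6],[0,8,0,8,0,8,0,8,0,8,0,8,0,8,0,8,0,8],[2,4,2,4,2,4,2,4,2,4],[2,6,2,6,2,6,2,6,2,6,2,6,2,6,2,6,2,6,2,6,2,6,2,6,2,6,2,6,2,6,2,6,2,6]]
set_option maxRecDepth 100000 in
/-- Relators, part 1. -/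
def R0T1 : List (List ℕ) := [[2,8,2,8,2,8,2,8,2,8,2,8],[4,6,4,6,4,6],[4,8,4,8,4,8,4,8,4,8],[6,8,6,8,6,8,6,8,6,8,6,8,6,8,6,8],[0,2,4,0,4,0,4,0,4,0,4,2],[0,2,4,0,4,2,4,2,4,2,4,0,4],[0,2,4,2,4,0,4,0,4,0,4,2,4],[0,2,4,6,2,4,6,4,6,2,0,6,0,6],[0,2,4,6,4,0,6,0,6,4,2,4,2,6],[0,4,0,4,6,2,8,4,2,6,4,0,6,4,2,8,6,4]]
set_option maxRecDepth 100000 in
/-- Relators, part 2. -/
def R0T2 : List (List ℕ) := [[0,2,0,4,6,4,0,4,0,6,2,4,6,4,0,4,0,6],[0,2,6,0,4,0,4,6,4,6,0,4,0,4,6,4,0,6],[0,4,2,6,0,6,0,6,4,2,4,6,4,0,4,6,0,6],[0,2,4,2,4,6,4,0,6,0,6,2,6,4,0,4,6,4],[0,6,2,4,6,4,2,4,6,0,6,2,4,6,4,2,4,6],[0,2,4,6,2,6,4,2,4,6,4,0,2,6,2,4,2,4],[0,4,6,2,6,2,4,6,4,0,6,2,6,4,2,6,0,6]]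
set_option maxRecDepth 100000 in
/-- Relators, part 3. -/
def R0T3 : List (List ℕ) := [[0,2,4,6,2,4,6,2,4,2,4,6,4,2,6,4,2,4],[0,2,6,0,6,4,2,4,6,2,4,6,4,2,4,2,4,6],[0,4,6,8,2,6,0,8,4,2,4,8,4,6,2,6,0,8],[0,2,4,0,4,0,4,0,8,4,8,4,0,4,2,4,8,4],[0,2,0,4,8,6,2,4,8,6,2,4,8,6,2,4,8,6],[0,2,4,0,4,0,6,0,6,4,0,4,6,0,4,6,0,6]]
set_option maxRecDepth 100000 in
/-- The relators up to rotations. -/
def R0T : List (List ℕ) := R0T0 ++ R0T1 ++ R0T2 ++ R0T3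
/-- The number of points. -/
abbrev n : ℕ := 12312
theorem h0 : 0 < n := by norm_num
/-- The table of the letters. -/
noncomputable abbrev τ : ℕ → ℕ → ℕ := tauP d tb
set_option maxHeartbeats 0 in
set_option maxRecDepth 100000 in
theorem hC : chkCoset τ d n = true := by decide +kernel
/-- The permutations of the letters. -/
noncomputable def C : Coset d n := mkCoset τ hC
set_option maxHeartbeats 0 in
set_option maxRecDepth 100000 in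
theorem hloopT0_0 : ∀ r ∈ R0T0, ∀ i, i < n → actW C.τ r i = i := loops_of_chk (by decide +kernel)
set_option maxHeartbeats 0 in
set_option maxRecDepth 100000 in
theorem hloopT0_1 : ∀ r ∈ R0T1, ∀ i, i < n → actW C.τ r i = i := loops_of_chk (by decide +kernel)
set_option maxHeartbeats 0 in
set_option maxRecDepth 100000 in
theorem hloopT0_2 : ∀ r ∈ R0T2, ∀ i, i < n → actW C.τ r i = i := loops_of_chk (by decide +kernel)
set_option maxHeartbeats 0 in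
set_option maxRecDepth 100000 in
theorem hloopT0_3 : ∀ r ∈ R0T3, ∀ i, i < n → actW C.τ r i = i := loops_of_chk (by decide +kernel)
theorem hloopT0 : ∀ r ∈ R0T, ∀ i, i < n → actW C.τ r i = i := by
  intro r hr
  simp only [R0T, List.mem_append] at hr
  rcases hr with (((h0 | h1) | h2) | h3)
  · exact hloopT0_0 r h0
  · exact hloopT0_1 r h1
  · exact hloopT0_2 r h2
  · exact hloopT0_3 r h3
set_option maxHeartbeats 0 in
set_option maxRecDepth 100000 in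
theorem hrrT : (∀ r ∈ R0T, r ∈ stdRels S) ∧ (∀ r ∈ stdRels S, ∃ r₀ ∈ R0T, ∃ k, r₀.rotate k = r) :=
  of_chkRot (by decide +kernel)
theorem hloopS : ∀ r ∈ stdRels S, ∀ i, i < n → actW C.τ r i = i :=
  loops_rot C (fun r hr => hok r (hrrT.1 r hr)) hloopT0 hrrT.2
theorem exρ : ∃ ρ : P →* Equiv.Perm (Fin n), ∀ x, x < d → ρ (v x) = (C.p x)⁻¹ := exists_rho hP C hok hloopS
/-- The representation on the points. -/
noncomputable def ρ : P →* Equiv.Perm (Fin n) := exρ.choose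
theorem hρ : ∀ x, x < d → ρ (v x) = (C.p x)⁻¹ := exρ.choose_spec
set_option maxHeartbeats 0 in
set_option maxRecDepth 100000 in
theorem hTree : chkTree τ d n (lookP parT) (lookP genT) = true := by decide +kernel
theorem htr : ∀ i (hi : i < n), ∃ u : P, (ρ u)⁻¹ ⟨0, h0⟩ = ⟨i, hi⟩ := fun i hi => trans_of_tree C hρ hTree i hi

end Cfsg.Agent.Lib.KnownSimple.MultM.J3L
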